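import Cfsg.Agent.Lib.PSp43Rec.CtLe

/-!
Generators of the centralizer of the involution of the frame.
-/

set_option autoImplicit false

namespace CfsgPSp43Rec

open Equiv

namespace Frame

variable {G : Type*} [Group G] [Finite G] (F : Frame G)

/-- The centralizer of the involution is generated by the quaternion element and its part in the normalizer. -/
theorem Ct_gen {i : G} (hi : i * i = F.t) (hI : F.Acts i actI) (H : Subgroup G) (hiH : i ∈ H)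
    (hN : ∀ g, Commute g F.t → g ∈ F.N → g ∈ H) : F.Ct ≤ H := by
  classical
  have hit : Commute i F.t := hi ▸ (Commute.refl i).mul_right (Commute.refl i)
  obtain ⟨hwt, hwz, -⟩ := F.w_facts
  obtain ⟨M, hMn, -, hidx, hiM, hM2, hgen, hMc, hMa, hM3z⟩ := F.ct_struct hi hI hit F.z2_t
  have := hMn
  obtain ⟨iC, hiC⟩ : ∃ iC : F.Ct, iC = ⟨i, F.mem_Ct.2 hit⟩ := ⟨_, rfl⟩
  obtain ⟨zC, hzC⟩ : ∃ zC : F.Ct, zC = ⟨F.z 2, F.mem_Ct.2 F.z2_t⟩ := ⟨_, rfl⟩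
  obtain ⟨wC, hwC⟩ : ∃ wC : F.Ct, wC = ⟨F.φ swap23, F.mem_Ct.2 hwt⟩ := ⟨_, rfl⟩
  rw [← hiC] at hiM
  rw [← hiC, ← hzC] at hM3z
  have hmk : Function.Surjective F.mkt := QuotientGroup.mk'_surjective F.Kt
  have hwz' : F.mkt wC * F.mkt ⟨F.Zt (ev 2), F.Zt_mem_Ct fixed_gens.1⟩ * (F.mkt wC)⁻¹ =
      F.mkt ⟨F.Zt (ev 3), F.Zt_mem_Ct fixed_gens.2.1⟩ := by
    rw [← map_inv, ← map_mul, ← map_mul]
    refine congrArg F.mkt (Subtype.ext ?_)
    show (wC : G) * F.Zt (ev 2) * (wC : G)⁻¹ = F.Zt (ev 3)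
    rw [hwC, ← F.z_eq, ← F.z_eq]
    exact hwz
  obtain ⟨b3, hb3⟩ : ∃ b3, b3 = F.mkt ⟨F.Zt (ev 3), F.Zt_mem_Ct fixed_gens.2.1⟩ := ⟨_, rfl⟩
  obtain ⟨b2, hb2⟩ : ∃ b2, b2 = F.mkt ⟨F.Zt (ev 2), F.Zt_mem_Ct fixed_gens.1⟩ := ⟨_, rfl⟩
  rw [← hb3] at hM3z hwz'
  rw [← hb2] at hwz'
  -- membership of the fixed points
  have hfix : ∀ y ∈ M, ∀ q, ∀ hq : act swap01 q = q, q ≠ 0 →
      y * F.mkt ⟨F.Zt q, F.Zt_mem_Ct hq⟩ = F.mkt ⟨F.Zt q, F.Zt_mem_Ct hq⟩ * y →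
      y = 1 ∨ (Commute y b3) ∨ Commute (F.mkt wC * y * (F.mkt wC)⁻¹) b3 := by
    intro y hy q hq hq0 e
    obtain ⟨d, hd, h⟩ := fixed_cases q hq hq0
    have hb : ∀ r hr, q = sc d r → Commute y (F.mkt ⟨F.Zt r, F.Zt_mem_Ct hr⟩) := fun r hr er => by
      rw [show (⟨F.Zt r, F.Zt_mem_Ct hr⟩ : F.Ct) = ⟨F.Zt q, F.Zt_mem_Ct hq⟩ ^ d.val from Subtype.ext (by
        show F.Zt r = F.Zt q ^ d.val
        rw [← F.Zt_sc, er, ct_coord_facts.2.2 d hd]), map_pow]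
      exact (show Commute y _ from e).pow_right _
    rcases h with h | h | h | h
    · have h2 := (hb _ fixed_gens.1 h).conj (F.mkt wC)
      rw [← hb2, hwz'] at h2
      exact Or.inr (Or.inr h2)
    · exact Or.inr (Or.inl (hb3 ▸ hb _ fixed_gens.2.1 h))
    · exact Or.inl (hMc y hy (hb _ fixed_gens.2.2.2.1 h).eq)
    · exact Or.inl (hMa y hy (hb _ fixed_gens.2.2.1 h).eq)
  have hnorm : ∀ g : F.Ct,
      F.mkt g ∈ Subgroup.normalizer ((F.Et.map F.mkt : Subgroup _) : Set (F.Ct ⧸ F.Kt)) → (g : G) ∈ F.N := by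
    intro g hg
    obtain ⟨p, σ, hps, -, -⟩ := F.norm_coord hg
    rw [hps]
    exact mul_mem (F.Q1_le_N (F.Zt_mem p)) (F.phi_mem_N σ)
  have h3 : ∀ y ∈ M, y ^ 3 = 1 → y = 1 := fun y hy e => by
    obtain ⟨k, hk⟩ := hM2 y hy
    have h := Nat.dvd_gcd (orderOf_dvd_of_pow_eq_one hk) (orderOf_dvd_of_pow_eq_one e)
    rwa [show Nat.gcd (2 ^ k) 3 = 1 from Nat.Coprime.pow_left _ (by norm_num), Nat.dvd_one,
      orderOf_eq_one_iff] at h
  obtain ⟨Hb, hHb⟩ : ∃ Hb, Hb = (H.subgroupOf F.Ct).map F.mkt := ⟨_, rfl⟩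
  have hmem : ∀ g : F.Ct, (g : G) ∈ H → F.mkt g ∈ Hb := fun g hg => hHb ▸ ⟨g, hg, rfl⟩
  have hI' : F.mkt iC ∈ Hb := hmem _ (by rw [hiC]; exact hiH)
  have hZ' : F.mkt zC ∈ Hb := hmem _ (by rw [hzC]; exact hN _ F.z2_t (F.Q1_le_N (F.z_mem 2)))
  have hW' : F.mkt wC ∈ Hb := hmem _ (by rw [hwC]; exact hN _ hwt (F.phi_mem_N _))
  have h3H : ∀ y ∈ M, Commute y b3 → y ∈ Hb := fun y hy e => by
    rcases hM3z y hy e.eq with rfl | rfl | rfl | rfl
    · exact one_mem _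
    · exact hI'
    · rw [map_mul, map_mul, map_inv]; exact mul_mem (mul_mem hZ' hI') (inv_mem hZ')
    · rw [map_mul, map_mul, map_inv, map_mul]
      exact mul_mem (mul_mem (mul_mem hZ' hZ') hI') (inv_mem (mul_mem hZ' hZ'))
  have hMle : M ≤ Hb := by
    rw [hgen M hMn le_rfl]
    refine iSup₂_le fun a ha y hy => ?_
    obtain ⟨hyM, hya⟩ := hy
    obtain ⟨u, hu, rfl⟩ := ha.1
    obtain ⟨q, hq, hue⟩ := F.mem_Et hu
    have hu' : u = ⟨F.Zt q, F.Zt_mem_Ct hq⟩ := Subtype.ext hue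
    have hq0 : q ≠ 0 := fun e0 => ha.2 (by
      subst e0
      rw [hu']
      exact (congrArg F.mkt (Subtype.ext F.Zt_zero)).trans (map_one _))
    rw [hu'] at hya
    rcases hfix y hyM q hq hq0 (Subgroup.mem_centralizer_singleton_iff.1 hya) with h | h | h
    · exact h ▸ one_mem _
    · exact h3H y hyM h
    · have := mul_mem (mul_mem (inv_mem hW') (h3H _ (hMn.conj_mem y hyM _) h)) hW'
      rwa [← mul_assoc, ← mul_assoc, inv_mul_cancel, one_mul, inv_mul_cancel_right] at this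
  obtain ⟨P, hP⟩ := F.exists_sylow_Ct
  have : Fact (Nat.Prime 3) := ⟨Nat.prime_three⟩
  let T : Sylow 3 (F.Ct ⧸ F.Kt) := P.mapSurjective hmk
  have hT : (T : Subgroup (F.Ct ⧸ F.Kt)) = F.Et.map F.mkt := by
    show ((P.mapSurjective hmk : Sylow 3 (F.Ct ⧸ F.Kt)) : Subgroup (F.Ct ⧸ F.Kt)) = _
    rw [Sylow.coe_mapSurjective, hP]
  -- the image of the Sylow subgroup is normal
  let q := QuotientGroup.mk' M
  let Tq := T.mapSurjective (QuotientGroup.mk'_surjective M)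
  have hTn : (Tq : Subgroup ((F.Ct ⧸ F.Kt) ⧸ M)).Normal := by
    have hsub : Subsingleton (Sylow 3 ((F.Ct ⧸ F.Kt) ⧸ M)) := by
      refine (Nat.card_eq_one_iff_unique.1 ?_).1
      have h1 := Sylow.card_dvd_index Tq
      have h2 := card_sylow_modEq_one 3 ((F.Ct ⧸ F.Kt) ⧸ M)
      have h3 := (Tq : Subgroup ((F.Ct ⧸ F.Kt) ⧸ M)).card_mul_index
      have h4 : 9 ∣ Nat.card (Tq : Subgroup ((F.Ct ⧸ F.Kt) ⧸ M)) := by
        refine Tq.pow_dvd_card_of_pow_dvd_card (n := 2) ?_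
        rcases hidx with h | h <;> rw [h] <;> norm_num
      have h5 : (Tq : Subgroup ((F.Ct ⧸ F.Kt) ⧸ M)).index ∣ 2 := by
        obtain ⟨c, hc⟩ := h4
        rw [hc] at h3
        rcases hidx with h | h <;> rw [h] at h3
        · exact ⟨c * 2, by nlinarith⟩
        · exact ⟨c, by nlinarith⟩
      have h6 := Nat.le_of_dvd (by norm_num) (h1.trans h5)
      unfold Nat.ModEq at h2
      omega
    exact Sylow.normal_of_subsingleton Tq
  have hMT : (M ⊔ (T : Subgroup (F.Ct ⧸ F.Kt))).Normal := by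
    have := hTn.comap q
    rwa [Sylow.coe_mapSurjective, Subgroup.comap_map_eq, QuotientGroup.ker_mk', sup_comm] at this
  intro g hg
  have hall : F.mkt ⟨g, hg⟩ ∈ Hb := by
    have := hMT
    let Ts := T.subtype (show (T : Subgroup (F.Ct ⧸ F.Kt)) ≤ M ⊔ T from le_sup_right)
    have hTs : (Ts : Subgroup ↥(M ⊔ (T : Subgroup (F.Ct ⧸ F.Kt)))).map (M ⊔ (T : Subgroup (F.Ct ⧸ F.Kt))).subtype = T := by
      rw [Sylow.coe_subtype, Subgroup.map_subgroupOf_eq_of_le le_sup_right]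
    have htop := Sylow.normalizer_sup_eq_top Ts
    rw [hTs] at htop
    have hN' : Subgroup.normalizer ((T : Subgroup (F.Ct ⧸ F.Kt)) : Set (F.Ct ⧸ F.Kt)) ≤ Hb := fun y hy => by
      obtain ⟨y', rfl⟩ := hmk y
      exact hmem _ (hN _ (F.mem_Ct.1 y'.2) (hnorm y' (hT ▸ hy)))
    exact (htop ▸ sup_le hN' (sup_le hMle (le_trans Subgroup.le_normalizer hN')) :
      (⊤ : Subgroup _) ≤ Hb) (Subgroup.mem_top _)
  rw [hHb] at hall
  obtain ⟨g', hg', e⟩ := hall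
  rcases F.mkt_eq e with h | h
  · change (g' : G) = g at h
    exact h ▸ hg'
  · change (g' : G) = g * F.t at h
    have : g = (g' : G) * F.t := by rw [h, mul_assoc, F.t_sq, mul_one]
    rw [this]
    exact mul_mem hg' (hN _ (Commute.refl _) (F.phi_mem_N _))

end Frame

end CfsgPSp43Rec
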