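import Cfsg.Agent.Lib.PSp43Rec.CtLe
import Cfsg.Agent.Lib.PSp43Rec.Final
import Cfsg.Agent.S3221

/-!
The recognition when the element is not conjugate to its inverse.
-/

set_option autoImplicit false

namespace CfsgPSp43Rec

open Equiv
open CfsgLib.Heis43 (K3 card_psp)

theorem three_cycle_fixed : ∀ q : Tri, act (swap01 * swap12) q = q → ∃ d : ZMod 3, q = sc d (ev 3) := by decide +kernel

namespace Frame

variable {G : Type*} [Group G] [Finite G] (F : Frame G)

/-- The frame inside a subgroup containing both parabolic subgroups. -/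
theorem exists_restrict (H : Subgroup G) (hN : F.N ≤ H) (hC : Subgroup.centralizer {F.z 3} ≤ H) :
    ∃ F' : Frame ↥H, (∀ k, (F'.z k : G) = F.z k) ∧ ∀ σ, (F'.φ σ : G) = F.φ σ := by
  classical
  let zH : Fin 4 → H := fun k => ⟨F.z k, hN (F.Q1_le_N (F.z_mem k))⟩
  let φH : Perm (Fin 4) →* H := F.φ.codRestrict H fun σ => hN (F.phi_mem_N σ)
  have hcl : ∀ x : H, x ∈ Subgroup.closure (Set.range zH) ↔ (x : G) ∈ F.Q1 := by
    intro x
    have e : (Subgroup.closure (Set.range zH)).map H.subtype = F.Q1 := by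
      rw [MonoidHom.map_closure, ← Set.range_comp]; rfl
    rw [← e]
    exact (Subgroup.mem_map_iff_mem H.subtype_injective).symm
  let f : ↥(Subgroup.centralizer ({zH 3} : Set H)) →* ↥(Subgroup.centralizer ({F.z 3} : Set G)) :=
    (H.subtype.comp (Subgroup.subtype _)).codRestrict _ fun x =>
      Subgroup.mem_centralizer_singleton_iff.2 (congrArg Subtype.val (Subgroup.mem_centralizer_singleton_iff.1 x.2))
  have hf : Function.Bijective f := by
    refine ⟨fun x y e => Subtype.ext (Subtype.ext (congrArg (fun u : ↥(Subgroup.centralizer ({F.z 3} : Set G)) => (u : G)) e)),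
      fun y => ⟨⟨⟨y, hC y.2⟩, Subgroup.mem_centralizer_singleton_iff.2 (Subtype.ext
        (Subgroup.mem_centralizer_singleton_iff.1 y.2))⟩, rfl⟩⟩
  refine ⟨{
    z := zH
    φ := φH
    π := F.π.comp f
    cube := fun k => Subtype.ext (F.cube k)
    comm := fun k l => Subtype.ext (F.comm k l).eq
    prod := Subtype.ext F.prod
    conj := fun σ k => Subtype.ext (F.conj σ k)
    inj := fun a b c h => F.inj a b c (congrArg Subtype.val h)
    norm := fun x hx => by
      have hxN : (x : G) ∈ F.N := F.mem_N fun k =>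
        (hcl (x * zH k * x⁻¹)).1 ((Subgroup.mem_normalizer_iff.1 hx (zH k)).1 (Subgroup.subset_closure ⟨k, rfl⟩))
      obtain ⟨q, hq, σ, e⟩ := F.norm x hxN
      exact ⟨⟨q, hN (F.Q1_le_N hq)⟩, (hcl _).2 hq, σ, Subtype.ext e⟩
    self := fun x h => (hcl x).2 (F.self x fun k => congrArg Subtype.val (h k).eq)
    sig := fun K hK hn => by
      have h := F.sig (K.map H.subtype) (by rw [Subgroup.card_map_of_injective H.subtype_injective]; exact hK)
        fun k _ hx => by
          obtain ⟨y, hy, rfl⟩ := hx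
          exact ⟨zH k * y * (zH k)⁻¹, hn k y hy, rfl⟩
      exact (Subgroup.map_eq_bot_iff_of_injective _ H.subtype_injective).1 h
    surj := F.surj.comp hf.2
    kerCard := by
      rw [← F.kerCard, ← MonoidHom.comap_ker]
      exact Nat.card_congr
        { toFun := fun x => ⟨f x.1, x.2⟩
          invFun := fun y => ⟨(Equiv.ofBijective f hf).symm y.1, by
            rw [Subgroup.mem_comap]
            exact ((Equiv.ofBijective f hf).apply_symm_apply y.1).symm ▸ y.2⟩
          left_inv := fun x => Subtype.ext ((Equiv.ofBijective f hf).symm_apply_apply x.1)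
          right_inv := fun y => Subtype.ext ((Equiv.ofBijective f hf).apply_symm_apply y.1) }
    kerCent := fun x hx hc => by
      have h := F.kerCent (f x) hx fun y hy => by
        obtain ⟨y', rfl⟩ := hf.2 y
        rw [← map_mul, hc y' hy, map_mul]
      obtain ⟨n, hn⟩ := Subgroup.mem_zpowers_iff.1 h
      exact Subgroup.mem_zpowers_iff.2 ⟨n, Subtype.ext hn⟩
    nat := fun x h => F.nat (f x) fun y hy => by
      obtain ⟨y', rfl⟩ := hf.2 y
      obtain ⟨h1, h2⟩ := Subgroup.mem_inf.1 (h y' hy)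
      refine Subgroup.mem_inf.2 ⟨?_, ?_⟩
      · rw [← map_inv, ← map_inv, ← map_mul, ← map_mul, ← map_mul]; exact h1
      · obtain ⟨n, hn⟩ := Subgroup.mem_zpowers_iff.1 (Subgroup.mem_subgroupOf.1 h2)
        exact Subgroup.mem_subgroupOf.2 (Subgroup.mem_zpowers_iff.2 ⟨n, congrArg Subtype.val hn⟩) },
    fun k => rfl, fun σ => rfl⟩

theorem card_centralizer_le (H : Subgroup G) (t : H) (hle : Subgroup.centralizer {(t : G)} ≤ H) :
    Nat.card ↥(Subgroup.centralizer ({t} : Set H)) = Nat.card ↥(Subgroup.centralizer ({(t : G)} : Set G)) :=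
  Nat.card_congr
    { toFun := fun x => ⟨(x : H), Subgroup.mem_centralizer_singleton_iff.2
        (congrArg Subtype.val (Subgroup.mem_centralizer_singleton_iff.1 x.2))⟩
      invFun := fun y => ⟨⟨y, hle y.2⟩, Subgroup.mem_centralizer_singleton_iff.2
        (Subtype.ext (Subgroup.mem_centralizer_singleton_iff.1 y.2))⟩
      left_inv := fun _ => rfl
      right_inv := fun _ => rfl }

/-- The two parabolic subgroups generate the group when the element is not conjugate to its inverse. -/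
theorem iso_of_nonreal (hnr : ∀ g : G, g * F.z 3 * g⁻¹ ≠ (F.z 3)⁻¹) : Nonempty (G ≃* Cfsg.PSp 2 K3) := by
  classical
  refine F.nonempty_iso ?_
  obtain ⟨H, hH⟩ : ∃ H, H = F.N ⊔ Subgroup.centralizer {F.z 3} := ⟨_, rfl⟩
  have hN : F.N ≤ H := hH ▸ le_sup_left
  have hC : Subgroup.centralizer {F.z 3} ≤ H := hH ▸ le_sup_right
  rw [← hH]
  obtain ⟨F', hz, hφ⟩ := F.exists_restrict H hN hC
  have hgen : F'.N ⊔ Subgroup.centralizer {F'.z 3} = ⊤ := by
    refine Subgroup.map_injective H.subtype_injective ?_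
    rw [Subgroup.map_sup, ← MonoidHom.range_eq_map, Subgroup.range_subtype]
    refine le_antisymm (sup_le (Subgroup.map_subtype_le _) (Subgroup.map_subtype_le _)) ?_
    nth_rewrite 1 [hH]
    refine sup_le_sup (fun x hx => ⟨⟨x, hN hx⟩, ?_, rfl⟩) (fun x hx => ⟨⟨x, hC hx⟩, ?_, rfl⟩)
    · refine F'.mem_N fun k => ?_
      have hcl : F'.Q1.map H.subtype = F.Q1 := by
        rw [Q1, MonoidHom.map_closure, ← Set.range_comp]
        exact congrArg Subgroup.closure (congrArg Set.range (funext hz))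
      refine (Subgroup.mem_map_iff_mem H.subtype_injective).1 ?_
      rw [hcl]
      show x * (F'.z k : G) * x⁻¹ ∈ F.Q1
      rw [hz]
      exact (Subgroup.mem_normalizer_iff.1 hx _).1 (F.z_mem k)
    · refine Subgroup.mem_centralizer_singleton_iff.2 (Subtype.ext ?_)
      show x * (F'.z 3 : G) = (F'.z 3 : G) * x
      rw [hz]
      exact Subgroup.mem_centralizer_singleton_iff.1 hx
  obtain ⟨θ⟩ := F'.nonempty_iso hgen
  have : Fact (Nat.Prime 2) := ⟨Nat.prime_two⟩
  have : Fact (Nat.Prime 3) := ⟨Nat.prime_three⟩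
  have hcardH : Nat.card H = 25920 := (Nat.card_congr θ.toEquiv).trans card_psp
  have : IsSimpleGroup (Cfsg.PSp 2 K3) := CfsgLib.SympSimple.simple le_rfl (fun _ => by simp [ZMod.card])
  have hsimple : ∀ K : Subgroup H, K.Normal → K = ⊥ ∨ K = ⊤ := fun K hK => by
    rcases (hK.map θ.toMonoidHom θ.surjective).eq_bot_or_eq_top with h | h
    · exact Or.inl ((Subgroup.map_eq_bot_iff_of_injective _ θ.injective).1 h)
    · refine Or.inr (Subgroup.map_injective (f := θ.toMonoidHom) θ.injective ?_)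
      rw [h, Subgroup.map_top_of_surjective _ θ.surjective]
  -- the involution and its centraliser
  obtain ⟨tH, htH⟩ : ∃ tH : H, (tH : G) = F.t := ⟨⟨F.t, hN (F.phi_mem_N _)⟩, rfl⟩
  have hct : Subgroup.centralizer {(tH : G)} ≤ H := htH.symm ▸ F.Ct_facts.1 H hN hC
  obtain ⟨t₀, ht₀⟩ : ∃ t₀, t₀ = θ tH := ⟨_, rfl⟩
  have ht2 : orderOf F.t = 2 := orderOf_eq_prime (by rw [pow_two]; exact F.t_sq) F.t_ne
  have ht₀2 : orderOf t₀ = 2 := by rw [ht₀, MulEquiv.orderOf_eq, ← Subgroup.orderOf_coe, htH, ht2]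
  let eC : ↥(Subgroup.centralizer ({tH} : Set H)) ≃* ↥(Subgroup.centralizer ({t₀} : Set (Cfsg.PSp 2 K3))) :=
    { toFun := fun x => ⟨θ x, Subgroup.mem_centralizer_singleton_iff.2 (by
        rw [ht₀, ← map_mul, ← map_mul, Subgroup.mem_centralizer_singleton_iff.1 x.2])⟩
      invFun := fun y => ⟨θ.symm y, Subgroup.mem_centralizer_singleton_iff.2 (θ.injective (by
        rw [map_mul, map_mul, θ.apply_symm_apply, ← ht₀, Subgroup.mem_centralizer_singleton_iff.1 y.2]))⟩
      left_inv := fun x => Subtype.ext (θ.symm_apply_apply _)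
      right_inv := fun y => Subtype.ext (θ.apply_symm_apply _)
      map_mul' := fun x y => Subtype.ext (map_mul θ (x : H) (y : H)) }
  have h64 : 2 ^ 6 ∣ Nat.card ↥(Subgroup.centralizer ({t₀} : Set (Cfsg.PSp 2 K3))) := by
    rw [← Nat.card_congr eC.toEquiv, card_centralizer_le H tH hct, htH]
    exact F.Ct_facts.2
  obtain ⟨C₀, hC₀⟩ : ∃ C₀, C₀ = Subgroup.centralizer ({t₀} : Set (Cfsg.PSp 2 K3)) := ⟨_, rfl⟩
  rw [← hC₀] at h64
  have hcomm₀ : ∀ y ∈ C₀, y * t₀ = t₀ * y := fun y hy => by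
    rw [hC₀] at hy
    exact Subgroup.mem_centralizer_singleton_iff.1 hy
  obtain ⟨P⟩ := (inferInstance : Nonempty (Sylow 2 C₀))
  obtain ⟨U, hU⟩ := (P.2.map C₀.subtype).exists_le_sylow
  have hUcard : (P : Subgroup C₀).map C₀.subtype = U := by
    refine Subgroup.eq_of_le_of_card_ge hU ?_
    obtain ⟨n, hn⟩ := U.2.exists_card_eq
    have hd : 2 ^ n ∣ 25920 := by
      rw [← hn, ← card_psp]; exact Subgroup.card_subgroup_dvd_card _
    have hn6 : n ≤ 6 := by
      by_contra hlt
      exact absurd ((pow_dvd_pow 2 (show 7 ≤ n by omega)).trans hd) (by norm_num)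
    rw [hn, Subgroup.card_map_of_injective C₀.subtype_injective]
    exact (Nat.pow_le_pow_right (by norm_num) hn6).trans
      (Nat.le_of_dvd Nat.card_pos (P.pow_dvd_card_of_pow_dvd_card h64))
  have htC₀ : t₀ ∈ C₀ := hC₀ ▸ Subgroup.mem_centralizer_singleton_iff.2 rfl
  have htU : t₀ ∈ (U : Subgroup (Cfsg.PSp 2 K3)) := by
    rw [← hUcard]
    refine ⟨⟨t₀, htC₀⟩, ?_, rfl⟩
    have hz : (Subgroup.zpowers (⟨t₀, htC₀⟩ : C₀)).Normal := ⟨fun x hx g => by
      obtain ⟨m, rfl⟩ := Subgroup.mem_zpowers_iff.1 hx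
      have hc : Commute g (⟨t₀, htC₀⟩ : C₀) := Subtype.ext (hcomm₀ g g.2)
      rw [(hc.zpow_right m).eq, mul_inv_cancel_right]
      exact Subgroup.zpow_mem_zpowers _ _⟩
    have hp : IsPGroup 2 (Subgroup.zpowers (⟨t₀, htC₀⟩ : C₀)) := IsPGroup.of_card (n := 1) (by
      rw [Nat.card_zpowers, ← Subgroup.orderOf_coe, ht₀2, pow_one])
    rw [← P.is_maximal' (P.2.to_sup_of_normal_right hp) le_sup_left]
    exact Subgroup.mem_sup_right (Subgroup.mem_zpowers _)
  have hUc : ∀ u ∈ (U : Subgroup (Cfsg.PSp 2 K3)), u * t₀ = t₀ * u := fun u hu => by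
    rw [← hUcard] at hu
    obtain ⟨y, -, rfl⟩ := hu
    exact hcomm₀ y y.2
  -- the normal closure
  obtain ⟨D, hD⟩ : ∃ D, D = Subgroup.normalClosure (H : Set G) := ⟨_, rfl⟩
  have hHD : H ≤ D := hD ▸ Subgroup.le_normalClosure
  have hnoidx : ∀ K : Subgroup D, K.index ≠ 2 := by
    intro K hK
    have hKn : K.Normal := Subgroup.normal_of_index_eq_two hK
    have hin : ∀ x ∈ Group.conjugatesOfSet (H : Set G), ∃ hx : x ∈ D, (⟨x, hx⟩ : D) ∈ K := by
      intro x hx
      obtain ⟨y, hy, g, rfl⟩ : ∃ y ∈ H, ∃ g, g * y * g⁻¹ = x := by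
        obtain ⟨y, hy, hyx⟩ := Group.mem_conjugatesOfSet_iff.1 hx
        exact ⟨y, hy, isConj_iff.1 hyx⟩
      have hm : ∀ y : H, g * (y : G) * g⁻¹ ∈ D := fun y => by
        rw [hD]; exact Subgroup.normalClosure_normal.conj_mem _ (Subgroup.subset_normalClosure y.2) g
      let f : H →* D := (((MulAut.conj g).toMonoidHom).comp H.subtype).codRestrict D hm
      refine ⟨hm ⟨y, hy⟩, ?_⟩
      show f ⟨y, hy⟩ ∈ K
      rcases hsimple _ (hKn.comap f) with h | h
      · exfalso
        have hle : Nat.card H ≤ Nat.card (D ⧸ K) := Nat.card_le_card_of_injective (fun z => QuotientGroup.mk' K (f z))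
          fun a b e => by
            have : a⁻¹ * b ∈ K.comap f := by
              rw [Subgroup.mem_comap, map_mul, map_inv]; exact QuotientGroup.eq.1 e
            rw [h, Subgroup.mem_bot, inv_mul_eq_one] at this
            exact this
        rw [hcardH, ← Subgroup.index_eq_card, hK] at hle
        omega
      · exact (h.symm ▸ Subgroup.mem_top (⟨y, hy⟩ : H) : (⟨y, hy⟩ : H) ∈ K.comap f)
    have hDK : D ≤ K.map D.subtype := by
      conv_lhs => rw [hD]
      refine (Subgroup.closure_le _).2 fun x hx => ?_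
      obtain ⟨h1, h2⟩ := hin x hx
      exact ⟨_, h2, rfl⟩
    have hKtop : K = ⊤ := eq_top_iff.2 fun x _ => by
      obtain ⟨y, hy, e⟩ := hDK x.2
      exact (Subtype.ext e : y = x) ▸ hy
    rw [hKtop, Subgroup.index_top] at hK
    omega
  obtain ⟨tD, htD⟩ : ∃ tD : D, (tD : G) = F.t := ⟨⟨F.t, hHD (hN (F.phi_mem_N _))⟩, rfl⟩
  have htD2 : orderOf tD = 2 := by rw [← Subgroup.orderOf_coe, htD, ht2]
  let eD : ↥(Subgroup.centralizer ({tD} : Set D)) ≃* ↥(Subgroup.centralizer ({tH} : Set H)) :=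
    { toFun := fun x => ⟨⟨((x : D) : G), hct (Subgroup.mem_centralizer_singleton_iff.2 (by
          rw [htH, ← htD]; exact congrArg Subtype.val (Subgroup.mem_centralizer_singleton_iff.1 x.2)))⟩,
        Subgroup.mem_centralizer_singleton_iff.2 (Subtype.ext (by
          show ((x : D) : G) * (tH : G) = (tH : G) * ((x : D) : G)
          rw [htH, ← htD]; exact congrArg Subtype.val (Subgroup.mem_centralizer_singleton_iff.1 x.2)))⟩
      invFun := fun y => ⟨⟨((y : H) : G), hHD (y : H).2⟩, Subgroup.mem_centralizer_singleton_iff.2 (Subtype.ext (by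
          show ((y : H) : G) * (tD : G) = (tD : G) * ((y : H) : G)
          rw [htD, ← htH]; exact congrArg Subtype.val (Subgroup.mem_centralizer_singleton_iff.1 y.2)))⟩
      left_inv := fun _ => rfl
      right_inv := fun _ => rfl
      map_mul' := fun _ _ => rfl }
  obtain ⟨θD⟩ := Cfsg.Agent.S3221.result (G := D) (F := K3)
    (even_iff_two_dvd.2 (htD2 ▸ orderOf_dvd_natCard tD)) hnoidx (by simp [ZMod.card])
    U t₀ ht₀2 htU hUc tD htD2 (eD.trans eC)
  have hDH : D = H := (Subgroup.eq_of_le_of_card_ge hHD (by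
    rw [Nat.card_congr θD.toEquiv, card_psp, hcardH])).symm
  have hHn : H.Normal := hDH ▸ hD ▸ Subgroup.normalClosure_normal
  -- the Frattini argument
  obtain ⟨Cz, hCz⟩ : ∃ Cz, Cz = Subgroup.centralizer ({F.z 3} : Set G) := ⟨_, rfl⟩
  rw [← hCz] at hC
  have hcz : ∀ {x : G}, x ∈ Cz → Commute x (F.z 3) := fun {x} hx => F.mem_cent.1 (hCz ▸ hx)
  have hQC : F.Q1 ≤ Cz := fun x hx => hCz ▸ F.mem_cent.2 (F.Q1_comm hx (F.z_mem 3))
  have hR : F.π.ker.map (Subgroup.subtype _) ≤ Cz := by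
    rw [hCz]; exact Subgroup.map_subtype_le _
  have hQp : IsPGroup 3 (F.Q1.subgroupOf Cz) := IsPGroup.of_card (n := 3) (by
    rw [Nat.card_congr (Subgroup.subgroupOfEquivOfLe hQC).toEquiv, F.card_Q1]; norm_num)
  have hRp : IsPGroup 3 ((F.π.ker.map (Subgroup.subtype _)).subgroupOf Cz) := IsPGroup.of_card (n := 3) (by
    rw [Nat.card_congr (Subgroup.subgroupOfEquivOfLe hR).toEquiv,
      Subgroup.card_map_of_injective (Subgroup.subtype_injective _), F.kerCard]; norm_num)
  have hRn : ((F.π.ker.map (Subgroup.subtype _)).subgroupOf Cz).Normal := by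
    subst hCz
    rw [← Subgroup.comap_subtype, Subgroup.comap_map_eq_self_of_injective (Subgroup.subtype_injective _)]
    exact MonoidHom.normal_ker _
  obtain ⟨S, hS⟩ := (hQp.to_sup_of_normal_right hRp).exists_le_sylow
  obtain ⟨SH, hSH⟩ := ((S.2.map Cz.subtype).comap_of_injective H.subtype H.subtype_injective).exists_le_sylow
  have hScard : 3 ^ 4 ∣ Nat.card (S : Subgroup Cz) := S.pow_dvd_card_of_pow_dvd_card (by
    rw [hCz, F.card_cent]; norm_num)
  have hSle : (S : Subgroup Cz).map Cz.subtype ≤ H := le_trans (Subgroup.map_subtype_le _) hC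
  have hSHeq : ((SH : Subgroup H).map H.subtype) = (S : Subgroup Cz).map Cz.subtype := by
    refine (Subgroup.eq_of_le_of_card_ge ?_ ?_).symm
    · intro x hx
      exact ⟨⟨x, hSle hx⟩, hSH (by rw [Subgroup.mem_comap]; exact hx), rfl⟩
    · rw [Subgroup.card_map_of_injective H.subtype_injective, Subgroup.card_map_of_injective Cz.subtype_injective]
      refine le_trans ?_ (Nat.le_of_dvd Nat.card_pos hScard)
      obtain ⟨n, hn⟩ := SH.2.exists_card_eq
      have hd : 3 ^ n ∣ 25920 := by rw [← hn, ← hcardH]; exact Subgroup.card_subgroup_dvd_card _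
      rw [hn]
      refine Nat.pow_le_pow_right (by norm_num) ?_
      by_contra hlt
      exact absurd ((pow_dvd_pow 3 (show 5 ≤ n by omega)).trans hd) (by norm_num)
  have := hHn
  have htop := Sylow.normalizer_sup_eq_top SH
  rw [hSHeq] at htop
  refine eq_top_iff.2 (htop ▸ sup_le (fun g hg => hC ?_) le_rfl)
  have hmemS : ∀ {x : G} (hx : x ∈ Cz), (⟨x, hx⟩ : Cz) ∈ (S : Subgroup Cz) → x ∈ (S : Subgroup Cz).map Cz.subtype :=
    fun {x} hx h => ⟨⟨x, hx⟩, h, rfl⟩
  have hcomm : ∀ p ∈ (S : Subgroup Cz).map Cz.subtype, Commute (g * F.z 3 * g⁻¹) p := by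
    intro p hp
    have h1 : g⁻¹ * p * g ∈ (S : Subgroup Cz).map Cz.subtype := by
      have := (Subgroup.mem_normalizer_iff.1 (inv_mem hg) p).1 hp
      rwa [inv_inv] at this
    obtain ⟨y, -, hy⟩ := h1
    have h2 := (hcz y.2).symm.conj g
    rwa [show (y : G) = g⁻¹ * p * g from hy, show g * (g⁻¹ * p * g) * g⁻¹ = p by group] at h2
  have hx : g * F.z 3 * g⁻¹ ∈ F.Q1 := F.self _ fun k => hcomm _ (hmemS (hQC (F.z_mem k))
    (hS (Subgroup.mem_sup_left (show (⟨F.z k, hQC (F.z_mem k)⟩ : Cz) ∈ F.Q1.subgroupOf Cz from F.z_mem k))))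
  obtain ⟨q, hq⟩ := F.mem_Q1.1 hx
  have he0 : F.e0 ∈ F.π.ker.map (Subgroup.subtype _) :=
    ⟨⟨F.H (0, 1, 0), F.mem_cent.2 (F.H_comm _)⟩, F.H_mem _, F.H_gens.2.1⟩
  have hfix : act (swap01 * swap12) q = q := by
    refine F.Zt_injective ?_
    rw [← F.conj_Zt, ← hq]
    have h : Commute (g * F.z 3 * g⁻¹) F.e0 := hcomm _ (hmemS (hR he0)
      (hS (Subgroup.mem_sup_right (show (⟨F.e0, hR he0⟩ : Cz) ∈ _ from Subgroup.mem_subgroupOf.2 he0))))
    show F.e0 * _ * F.e0⁻¹ = _
    rw [h.symm.eq, mul_inv_cancel_right]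
  obtain ⟨d, hd⟩ := three_cycle_fixed q hfix
  rw [hd, F.Zt_sc, ← F.z_eq] at hq
  have hd' : ∀ d : ZMod 3, d.val = 0 ∨ d.val = 1 ∨ d.val = 2 := fun d => by have := d.val_lt; omega
  rcases hd' d with h | h | h <;> rw [h] at hq
  · rw [pow_zero, conj_eq_one_iff] at hq
    rw [hCz, Subgroup.mem_centralizer_singleton_iff, hq, mul_one, one_mul]
  · rw [pow_one, mul_inv_eq_iff_eq_mul] at hq
    rw [hCz]
    exact Subgroup.mem_centralizer_singleton_iff.2 hq
  · exfalso
    refine hnr g (hq.trans (eq_inv_of_mul_eq_one_left ?_))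
    rw [← pow_succ, F.cube]

end Frame

end CfsgPSp43Rec
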