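import Cfsg.Agent.Lib.PSp43Rec.CentT

/-!
The centraliser of the involution lies in every subgroup containing the two parabolic subgroups.
-/

set_option autoImplicit false

namespace CfsgPSp43Rec

open Equiv

namespace Frame

variable {G : Type*} [Group G] [Finite G] (F : Frame G)

omit [Finite G] in
theorem z2_t : Commute (F.z 2) F.t := by
  refine Commute.symm ?_
  have := F.conj' swap01 2
  rwa [perm_facts.2.2.1] at this

/-- The structure of the centraliser of the involution modulo it. -/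
theorem Ct_facts : (∀ H : Subgroup G, F.N ≤ H → Subgroup.centralizer {F.z 3} ≤ H → F.Ct ≤ H) ∧
    64 ∣ Nat.card F.Ct := by
  classical
  obtain ⟨i, hi, hI⟩ := F.exists_quat
  have hit : Commute i F.t := hi ▸ (Commute.refl i).mul_right (Commute.refl i)
  obtain ⟨hwt, hwz, -⟩ := F.w_facts
  obtain ⟨M, hMn, -, hidx, hiM, hM2, hgen, hMc, hMa, hM3z⟩ := F.ct_struct hi hI hit F.z2_t
  have := hMn
  obtain ⟨iC, hiC⟩ : ∃ iC : F.Ct, iC = ⟨i, F.mem_Ct.2 hit⟩ := ⟨_, rfl⟩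
  obtain ⟨zC, hzC⟩ : ∃ zC : F.Ct, zC = ⟨F.z 2, F.mem_Ct.2 F.z2_t⟩ := ⟨_, rfl⟩
  obtain ⟨wC, hwC⟩ : ∃ wC : F.Ct, wC = ⟨F.φ swap23, F.mem_Ct.2 hwt⟩ := ⟨_, rfl⟩
  rw [← hiC] at hiM
  rw [← hiC, ← hzC] at hM3z
  have hmk : Function.Surjective F.mkt := QuotientGroup.mk'_surjective F.Kt
  have hwz' : F.mkt wC * F.mkt ⟨F.Zt (ev 2), F.Zt_mem_Ct fixed_gens.1⟩ * (F.mkt wC)⁻¹ =
      F.mkt ⟨F.Zt (ev 3), F.Zt_mem_Ct fixed_gens.2.1⟩ := by
    rw [← map_inv, ← map_mul, ← map_mul]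
    refine congrArg F.mkt (Subtype.ext ?_)
    show (wC : G) * F.Zt (ev 2) * (wC : G)⁻¹ = F.Zt (ev 3)
    rw [hwC, ← F.z_eq, ← F.z_eq]
    exact hwz
  obtain ⟨b3, hb3⟩ : ∃ b3, b3 = F.mkt ⟨F.Zt (ev 3), F.Zt_mem_Ct fixed_gens.2.1⟩ := ⟨_, rfl⟩
  obtain ⟨b2, hb2⟩ : ∃ b2, b2 = F.mkt ⟨F.Zt (ev 2), F.Zt_mem_Ct fixed_gens.1⟩ := ⟨_, rfl⟩
  rw [← hb3] at hM3z hwz'
  rw [← hb2] at hwz'
  -- membership of the fixed points
  have hfix : ∀ y ∈ M, ∀ q, ∀ hq : act swap01 q = q, q ≠ 0 →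
      y * F.mkt ⟨F.Zt q, F.Zt_mem_Ct hq⟩ = F.mkt ⟨F.Zt q, F.Zt_mem_Ct hq⟩ * y →
      y = 1 ∨ (Commute y b3) ∨ Commute (F.mkt wC * y * (F.mkt wC)⁻¹) b3 := by
    intro y hy q hq hq0 e
    obtain ⟨d, hd, h⟩ := fixed_cases q hq hq0
    have hb : ∀ r hr, q = sc d r → Commute y (F.mkt ⟨F.Zt r, F.Zt_mem_Ct hr⟩) := fun r hr er => by
      rw [show (⟨F.Zt r, F.Zt_mem_Ct hr⟩ : F.Ct) = ⟨F.Zt q, F.Zt_mem_Ct hq⟩ ^ d.val from Subtype.ext (by
        show F.Zt r = F.Zt q ^ d.val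
        rw [← F.Zt_sc, er, ct_coord_facts.2.2 d hd]), map_pow]
      exact (show Commute y _ from e).pow_right _
    rcases h with h | h | h | h
    · have h2 := (hb _ fixed_gens.1 h).conj (F.mkt wC)
      rw [← hb2, hwz'] at h2
      exact Or.inr (Or.inr h2)
    · exact Or.inr (Or.inl (hb3 ▸ hb _ fixed_gens.2.1 h))
    · exact Or.inl (hMc y hy (hb _ fixed_gens.2.2.2.1 h).eq)
    · exact Or.inl (hMa y hy (hb _ fixed_gens.2.2.1 h).eq)
  have hnorm : ∀ g : F.Ct,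
      F.mkt g ∈ Subgroup.normalizer ((F.Et.map F.mkt : Subgroup _) : Set (F.Ct ⧸ F.Kt)) → (g : G) ∈ F.N := by
    intro g hg
    obtain ⟨p, σ, hps, -, -⟩ := F.norm_coord hg
    rw [hps]
    exact mul_mem (F.Q1_le_N (F.Zt_mem p)) (F.phi_mem_N σ)
  have h3 : ∀ y ∈ M, y ^ 3 = 1 → y = 1 := fun y hy e => by
    obtain ⟨k, hk⟩ := hM2 y hy
    have h := Nat.dvd_gcd (orderOf_dvd_of_pow_eq_one hk) (orderOf_dvd_of_pow_eq_one e)
    rwa [show Nat.gcd (2 ^ k) 3 = 1 from Nat.Coprime.pow_left _ (by norm_num), Nat.dvd_one,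
      orderOf_eq_one_iff] at h
  constructor
  · -- the whole group
    intro H hN hC
    obtain ⟨Hb, hHb⟩ : ∃ Hb, Hb = (H.subgroupOf F.Ct).map F.mkt := ⟨_, rfl⟩
    have hmem : ∀ g : F.Ct, (g : G) ∈ H → F.mkt g ∈ Hb := fun g hg => hHb ▸ ⟨g, hg, rfl⟩
    have hI' : F.mkt iC ∈ Hb := hmem _ (by rw [hiC]; exact hC (F.mem_cent.2 hI.comm))
    have hZ' : F.mkt zC ∈ Hb := hmem _ (by rw [hzC]; exact hN (F.Q1_le_N (F.z_mem 2)))
    have hW' : F.mkt wC ∈ Hb := hmem _ (by rw [hwC]; exact hN (F.phi_mem_N _))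
    have h3H : ∀ y ∈ M, Commute y b3 → y ∈ Hb := fun y hy e => by
      rcases hM3z y hy e.eq with rfl | rfl | rfl | rfl
      · exact one_mem _
      · exact hI'
      · rw [map_mul, map_mul, map_inv]; exact mul_mem (mul_mem hZ' hI') (inv_mem hZ')
      · rw [map_mul, map_mul, map_inv, map_mul]
        exact mul_mem (mul_mem (mul_mem hZ' hZ') hI') (inv_mem (mul_mem hZ' hZ'))
    have hMle : M ≤ Hb := by
      rw [hgen M hMn le_rfl]
      refine iSup₂_le fun a ha y hy => ?_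
      obtain ⟨hyM, hya⟩ := hy
      obtain ⟨u, hu, rfl⟩ := ha.1
      obtain ⟨q, hq, hue⟩ := F.mem_Et hu
      have hu' : u = ⟨F.Zt q, F.Zt_mem_Ct hq⟩ := Subtype.ext hue
      have hq0 : q ≠ 0 := fun e0 => ha.2 (by
        subst e0
        rw [hu']
        exact (congrArg F.mkt (Subtype.ext F.Zt_zero)).trans (map_one _))
      rw [hu'] at hya
      rcases hfix y hyM q hq hq0 (Subgroup.mem_centralizer_singleton_iff.1 hya) with h | h | h
      · exact h ▸ one_mem _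
      · exact h3H y hyM h
      · have := mul_mem (mul_mem (inv_mem hW') (h3H _ (hMn.conj_mem y hyM _) h)) hW'
        rwa [← mul_assoc, ← mul_assoc, inv_mul_cancel, one_mul, inv_mul_cancel_right] at this
    obtain ⟨P, hP⟩ := F.exists_sylow_Ct
    have : Fact (Nat.Prime 3) := ⟨Nat.prime_three⟩
    let T : Sylow 3 (F.Ct ⧸ F.Kt) := P.mapSurjective hmk
    have hT : (T : Subgroup (F.Ct ⧸ F.Kt)) = F.Et.map F.mkt := by
      show ((P.mapSurjective hmk : Sylow 3 (F.Ct ⧸ F.Kt)) : Subgroup (F.Ct ⧸ F.Kt)) = _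
      rw [Sylow.coe_mapSurjective, hP]
    -- the image of the Sylow subgroup is normal
    let q := QuotientGroup.mk' M
    let Tq := T.mapSurjective (QuotientGroup.mk'_surjective M)
    have hTn : (Tq : Subgroup ((F.Ct ⧸ F.Kt) ⧸ M)).Normal := by
      have hsub : Subsingleton (Sylow 3 ((F.Ct ⧸ F.Kt) ⧸ M)) := by
        refine (Nat.card_eq_one_iff_unique.1 ?_).1
        have h1 := Sylow.card_dvd_index Tq
        have h2 := card_sylow_modEq_one 3 ((F.Ct ⧸ F.Kt) ⧸ M)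
        have h3 := (Tq : Subgroup ((F.Ct ⧸ F.Kt) ⧸ M)).card_mul_index
        have h4 : 9 ∣ Nat.card (Tq : Subgroup ((F.Ct ⧸ F.Kt) ⧸ M)) := by
          refine Tq.pow_dvd_card_of_pow_dvd_card (n := 2) ?_
          rcases hidx with h | h <;> rw [h] <;> norm_num
        have h5 : (Tq : Subgroup ((F.Ct ⧸ F.Kt) ⧸ M)).index ∣ 2 := by
          obtain ⟨c, hc⟩ := h4
          rw [hc] at h3
          rcases hidx with h | h <;> rw [h] at h3
          · exact ⟨c * 2, by nlinarith⟩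
          · exact ⟨c, by nlinarith⟩
        have h6 := Nat.le_of_dvd (by norm_num) (h1.trans h5)
        unfold Nat.ModEq at h2
        omega
      exact Sylow.normal_of_subsingleton Tq
    have hMT : (M ⊔ (T : Subgroup (F.Ct ⧸ F.Kt))).Normal := by
      have := hTn.comap q
      rwa [Sylow.coe_mapSurjective, Subgroup.comap_map_eq, QuotientGroup.ker_mk', sup_comm] at this
    intro g hg
    have hall : F.mkt ⟨g, hg⟩ ∈ Hb := by
      have := hMT
      let Ts := T.subtype (show (T : Subgroup (F.Ct ⧸ F.Kt)) ≤ M ⊔ T from le_sup_right)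
      have hTs : (Ts : Subgroup ↥(M ⊔ (T : Subgroup (F.Ct ⧸ F.Kt)))).map (M ⊔ (T : Subgroup (F.Ct ⧸ F.Kt))).subtype = T := by
        rw [Sylow.coe_subtype, Subgroup.map_subgroupOf_eq_of_le le_sup_right]
      have htop := Sylow.normalizer_sup_eq_top Ts
      rw [hTs] at htop
      have hN' : Subgroup.normalizer ((T : Subgroup (F.Ct ⧸ F.Kt)) : Set (F.Ct ⧸ F.Kt)) ≤ Hb := fun y hy => by
        obtain ⟨y', rfl⟩ := hmk y
        exact hmem _ (hN (hnorm y' (hT ▸ hy)))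
      exact (htop ▸ sup_le hN' (sup_le hMle (le_trans Subgroup.le_normalizer hN')) :
        (⊤ : Subgroup _) ≤ Hb) (Subgroup.mem_top _)
    rw [hHb] at hall
    obtain ⟨g', hg', e⟩ := hall
    rcases F.mkt_eq e with h | h
    · change (g' : G) = g at h
      exact h ▸ hg'
    · change (g' : G) = g * F.t at h
      have : g = (g' : G) * F.t := by rw [h, mul_assoc, F.t_sq, mul_one]
      rw [this]
      exact mul_mem hg' (hN (F.phi_mem_N _))
  · -- the two part of the order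
    have hzi : ¬ Commute (F.mkt zC) (F.mkt iC) := by
      intro h
      have hi2 : F.mkt iC * b2 = b2 * F.mkt iC := by
        rw [hb2, show (⟨F.Zt (ev 2), F.Zt_mem_Ct fixed_gens.1⟩ : F.Ct) = zC from Subtype.ext (by
          show F.Zt (ev 2) = (zC : G)
          rw [hzC]; exact (F.z_eq 2).symm)]
        exact h.symm.eq
      have hi3 : F.mkt iC * b3 = b3 * F.mkt iC := by
        rw [hb3, ← map_mul, ← map_mul]
        exact congrArg F.mkt (Subtype.ext (by
          show (iC : G) * F.Zt (ev 3) = F.Zt (ev 3) * iC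
          rw [hiC, ← F.z_eq]; exact hI.comm.eq))
      have hone : F.mkt iC = 1 := hMc _ hiM (by
        rw [show (⟨F.Zt cc, F.Zt_mem_Ct fixed_gens.2.2.2.1⟩ : F.Ct) =
          ⟨F.Zt (ev 2), F.Zt_mem_Ct fixed_gens.1⟩ * ⟨F.Zt (ev 3), F.Zt_mem_Ct fixed_gens.2.1⟩ ^ 2 from Subtype.ext (by
            show F.Zt cc = F.Zt (ev 2) * F.Zt (ev 3) ^ 2
            rw [← show (2 : ZMod 3).val = 2 from rfl, ← F.Zt_sc, F.Zt_mul, ct_coord_facts.1]), map_mul, map_pow,
          ← hb2, ← hb3]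
        exact ((show Commute (F.mkt iC) b2 from hi2).mul_right ((show Commute (F.mkt iC) b3 from hi3).pow_right 2)).eq)
      rcases F.mem_zt (show (iC : G) ∈ Subgroup.zpowers F.t from (QuotientGroup.eq_one_iff iC).1 hone) with h | h
      all_goals rw [hiC] at h; change i = _ at h
      · rw [h, one_mul] at hi; exact F.t_ne hi.symm
      · rw [h, F.t_sq] at hi; exact F.t_ne hi.symm
    have hiA : Commute (F.mkt iC) b3 := by
      rw [hb3]
      exact (show Commute iC _ from Subtype.ext (by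
        show (iC : G) * F.Zt (ev 3) = F.Zt (ev 3) * iC
        rw [hiC, ← F.z_eq]; exact hI.comm.eq)).map F.mkt
    have hzA : Commute (F.mkt zC) b3 := by
      rw [hb3]
      exact (show Commute zC _ from Subtype.ext (by
        show (zC : G) * F.Zt (ev 3) = F.Zt (ev 3) * zC
        rw [hzC, ← F.z_eq]; exact (F.comm 2 3).eq)).map F.mkt
    obtain ⟨A, hA⟩ : ∃ A, A = M ⊓ Subgroup.centralizer {b3} := ⟨_, rfl⟩
    have hAmem : ∀ y, y ∈ A ↔ y ∈ M ∧ Commute y b3 := fun y => by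
      rw [hA, Subgroup.mem_inf, Subgroup.mem_centralizer_singleton_iff]; exact Iff.rfl
    have hcard : 3 ≤ Nat.card A := by
      let f : Fin 3 → A := ![1, ⟨F.mkt iC, (hAmem _).2 ⟨hiM, hiA⟩⟩,
        ⟨F.mkt zC * F.mkt iC * (F.mkt zC)⁻¹, (hAmem _).2 ⟨hMn.conj_mem _ hiM _, (hzA.mul_left hiA).mul_left hzA.inv_left⟩⟩]
      have h1 : F.mkt iC ≠ 1 := fun e => hzi (e ▸ Commute.one_right _)
      have h2 : F.mkt zC * F.mkt iC * (F.mkt zC)⁻¹ ≠ 1 := fun e => h1 (conj_eq_one_iff.1 e)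
      have h3 : F.mkt zC * F.mkt iC * (F.mkt zC)⁻¹ ≠ F.mkt iC := fun e => hzi (mul_inv_eq_iff_eq_mul.1 e)
      have hinj : Function.Injective f := by
        intro x y e
        have e' := congrArg Subtype.val e
        fin_cases x <;> fin_cases y <;> first | rfl | exfalso <;>
          simp [f, -QuotientGroup.mk'_apply, -QuotientGroup.eq_one_iff] at e' <;> first | exact h1 e' | exact h1 e'.symm | exact h2 e' | exact h2 e'.symm | exact h3 e' | exact h3 e'.symm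
      simpa using Nat.card_le_card_of_injective f hinj
    have : Fact (Nat.Prime 2) := ⟨Nat.prime_two⟩
    have hMp : IsPGroup 2 M := fun y => by
      obtain ⟨k, hk⟩ := hM2 y y.2
      exact ⟨k, Subtype.ext hk⟩
    have hA4 : 4 ≤ Nat.card A := by
      obtain ⟨k, hk⟩ := (hMp.to_le (hA ▸ inf_le_left : A ≤ M)).exists_card_eq
      have h2 : 2 ≤ k := by
        by_contra hlt
        have : 2 ^ k ≤ 2 ^ 1 := Nat.pow_le_pow_right (by norm_num) (by omega)
        omega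
      rw [hk, show 4 = 2 ^ 2 from rfl]
      exact Nat.pow_le_pow_right (by norm_num) h2
    have hprod : 16 ≤ Nat.card M := by
      let f : A × A → M := fun p => ⟨p.1 * ((F.mkt wC)⁻¹ * p.2 * F.mkt wC), mul_mem ((hAmem _).1 p.1.2).1 (by
        have := hMn.conj_mem _ ((hAmem _).1 p.2.2).1 (F.mkt wC)⁻¹
        rwa [inv_inv] at this)⟩
      have hinj : Function.Injective f := by
        rintro ⟨a, b⟩ ⟨a', b'⟩ e
        have e' : (a : F.Ct ⧸ F.Kt) * ((F.mkt wC)⁻¹ * b * F.mkt wC) = a' * ((F.mkt wC)⁻¹ * b' * F.mkt wC) :=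
          congrArg Subtype.val e
        obtain ⟨y, hy⟩ : ∃ y, y = (a' : F.Ct ⧸ F.Kt)⁻¹ * a := ⟨_, rfl⟩
        have hyA : y ∈ A := hy ▸ mul_mem (inv_mem a'.2) a.2
        have hyw : y = (F.mkt wC)⁻¹ * ((b' : F.Ct ⧸ F.Kt) * (b : F.Ct ⧸ F.Kt)⁻¹) * F.mkt wC := by
          calc y = (a' : F.Ct ⧸ F.Kt)⁻¹ * (a * ((F.mkt wC)⁻¹ * b * F.mkt wC)) * ((F.mkt wC)⁻¹ * b * F.mkt wC)⁻¹ := by
                rw [hy]; group
            _ = _ := by rw [e']; group
        have hy2 : Commute y b2 := by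
          have h := ((hAmem _).1 (mul_mem b'.2 (inv_mem b.2))).2.conj (F.mkt wC)⁻¹
          rw [inv_inv, ← hyw, show (F.mkt wC)⁻¹ * b3 * F.mkt wC = b2 by rw [← hwz']; group] at h
          exact h
        have hy1 : y = 1 := hMc y ((hAmem _).1 hyA).1 (by
          rw [show (⟨F.Zt cc, F.Zt_mem_Ct fixed_gens.2.2.2.1⟩ : F.Ct) =
            ⟨F.Zt (ev 2), F.Zt_mem_Ct fixed_gens.1⟩ * ⟨F.Zt (ev 3), F.Zt_mem_Ct fixed_gens.2.1⟩ ^ 2 from Subtype.ext (by
              show F.Zt cc = F.Zt (ev 2) * F.Zt (ev 3) ^ 2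
              rw [← show (2 : ZMod 3).val = 2 from rfl, ← F.Zt_sc, F.Zt_mul, ct_coord_facts.1]), map_mul, map_pow,
            ← hb2, ← hb3]
          exact (hy2.mul_right (((hAmem _).1 hyA).2.pow_right 2)).eq)
        rw [hy, inv_mul_eq_one] at hy1
        obtain rfl : a = a' := Subtype.ext hy1.symm
        exact Prod.ext rfl (Subtype.ext (mul_left_cancel (mul_right_cancel (mul_left_cancel e'))))
      have h := Nat.card_le_card_of_injective f hinj
      rw [Nat.card_prod] at h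
      nlinarith
    have h16 : 16 ∣ Nat.card M := by
      obtain ⟨k, hk⟩ := hMp.exists_card_eq
      rw [hk] at hprod ⊢
      refine pow_dvd_pow 2 (show 4 ≤ k from ?_)
      by_contra hlt
      have : 2 ^ k ≤ 2 ^ 3 := Nat.pow_le_pow_right (by norm_num) (by omega)
      omega
    have h18 : Nat.card ((F.Ct ⧸ F.Kt) ⧸ M) = 18 := by
      refine hidx.resolve_left fun h9 => ?_
      have : Fact (Nat.Prime 3) := ⟨Nat.prime_three⟩
      have hcomm : ∀ x y : (F.Ct ⧸ F.Kt) ⧸ M, x * y = y * x :=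
        (IsPGroup.isMulCommutative_of_card_eq_prime_sq (p := 3) (by rw [h9]; norm_num)).is_comm.comm
      have hb : b2⁻¹ * b3 ∈ M := by
        rw [← QuotientGroup.eq, ← hwz', QuotientGroup.mk_mul, QuotientGroup.mk_mul, QuotientGroup.mk_inv,
          hcomm _ (b2 : (F.Ct ⧸ F.Kt) ⧸ M), mul_inv_cancel_right]
      have hm : (F.mkt (⟨F.Zt (ev 2), F.Zt_mem_Ct fixed_gens.1⟩⁻¹ * ⟨F.Zt (ev 3), F.Zt_mem_Ct fixed_gens.2.1⟩)) ∈ M := by
        rw [map_mul, map_inv, ← hb2, ← hb3]; exact hb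
      obtain ⟨u, hu⟩ : ∃ u : F.Ct, u = ⟨F.Zt (ev 2), F.Zt_mem_Ct fixed_gens.1⟩⁻¹ * ⟨F.Zt (ev 3), F.Zt_mem_Ct fixed_gens.2.1⟩ :=
        ⟨_, rfl⟩
      rw [← hu] at hm
      have hue : (u : G) = (F.z 2)⁻¹ * F.z 3 := by rw [hu, F.z_eq, F.z_eq]; rfl
      have hu1 := h3 _ hm (by
        rw [← map_pow]
        exact (congrArg F.mkt (Subtype.ext (by
          show (u : G) ^ 3 = 1
          rw [hue, (F.comm 2 3).inv_left.mul_pow, inv_pow, F.cube, F.cube, inv_one, mul_one]))).trans (map_one _))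
      rcases F.mem_zt (show (u : G) ∈ Subgroup.zpowers F.t from (QuotientGroup.eq_one_iff u).1 hu1) with h | h <;>
        rw [hue] at h
      · exact absurd (F.z_injective (inv_mul_eq_one.1 h)) (by decide)
      · exact absurd (F.phi_not_mem (σ := swap01) (show F.t ∈ F.Q1 from h ▸ mul_mem (inv_mem (F.z_mem 2)) (F.z_mem 3)))
          (by decide)
    have hKc : Nat.card F.Kt = 2 := by
      rw [Nat.card_congr (Subgroup.subgroupOfEquivOfLe (Subgroup.zpowers_le.2 (F.mem_Ct.2 (Commute.refl F.t)))).toEquiv,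
        Nat.card_zpowers]
      exact orderOf_eq_prime (by rw [pow_two]; exact F.t_sq) F.t_ne
    rw [Subgroup.card_eq_card_quotient_mul_card_subgroup F.Kt, hKc,
      Subgroup.card_eq_card_quotient_mul_card_subgroup M, h18]
    obtain ⟨c, hc⟩ := h16
    exact ⟨9 * c, by rw [hc]; ring⟩

end Frame

end CfsgPSp43Rec
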